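import Mathlib

/-!
# Exactness of left Kan extensions to ind-completions inside an abelian category
-/

set_option autoImplicit false
set_option maxHeartbeats 800000
set_option linter.unusedSectionVars false

universe w v₁ v₂ v₃ u₁ u₂ u₃

open CategoryTheory CategoryTheory.Limits Opposite

noncomputable section

namespace KanExactLib

variable {A' : Type u₃} [Category.{v₃} A'] [Abelian A'] [HasFilteredColimitsOfSize.{w, w} A'] [AB5OfSize.{w, w} A']

/-- In an AB5 category the kernel of a filtered colimit of morphisms is covered by the kernels. -/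
theorem kill_kernel {J : Type w} [SmallCategory J] [IsFiltered J] {D F : J ⥤ A'} (α : D ⟶ F)
    {cD : Cocone D} (hD : IsColimit cD) {cF : Cocone F} (hF : IsColimit cF) (φ : cD.pt ⟶ cF.pt)
    (hφ : ∀ j, cD.ι.app j ≫ φ = α.app j ≫ cF.ι.app j) {Z : A'} (h : cD.pt ⟶ Z)
    (H : ∀ j, kernel.ι (α.app j) ≫ cD.ι.app j ≫ h = 0) : kernel.ι φ ≫ h = 0 := by
  let S : ShortComplex (J ⥤ A') := ShortComplex.mk (kernel.ι α) α (kernel.condition α)
  have hS : S.Exact := ShortComplex.exact_of_f_is_kernel _ (kernelIsKernel α)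
  let c₁ := colimit.cocone (kernel α)
  let f : c₁.pt ⟶ cD.pt := colimMap (kernel.ι α) ≫ (colimit.isColimit D).desc cD
  have hf : ∀ j, c₁.ι.app j ≫ f = S.f.app j ≫ cD.ι.app j := fun j => by simp [c₁, f, S]
  have hT := colim.exact_mapShortComplex (S := S) hS (c₁ := c₁) (colimit.isColimit _) hD hF f φ hf hφ
  have hfh : f ≫ h = 0 := (colimit.isColimit _).hom_ext fun j => by
    have e : (kernel.ι α).app j ≫ α.app j = 0 := by
      rw [← NatTrans.comp_app, kernel.condition]; rfl
    rw [comp_zero, ← Category.assoc, hf j, Category.assoc]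
    show (kernel.ι α).app j ≫ cD.ι.app j ≫ h = 0
    rw [← kernel.lift_ι (α.app j) _ e, Category.assoc, H j, comp_zero]
  obtain ⟨W, π, hπ, y, hy⟩ := hT.exact_up_to_refinements (kernel.ι φ) (kernel.condition φ)
  change π ≫ kernel.ι φ = y ≫ f at hy
  refine (cancel_epi π).1 (((Category.assoc _ _ _).symm.trans (congrArg (fun t => t ≫ h) hy)).trans ?_)
  refine (Category.assoc _ _ _).trans ((congrArg (fun t => y ≫ t) hfh).trans ?_)
  exact (comp_zero).trans comp_zero.symm

variable {B : Type u₁} [Category.{v₁} B] [Abelian B] {A : Type u₂} [Category.{v₂} A] [Abelian A]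
  (i : B ⥤ A) (G : B ⥤ A') (L : A ⥤ A') (η : G ⟶ i ⋙ L)

theorem naturality {a b : B} (f : a ⟶ b) : G.map f ≫ η.app b = η.app a ≫ L.map (i.map f) := η.naturality f

/-- The cocone on values of `G` given by a presentation. -/
def kanCocone {J : Type w} [SmallCategory J] (D : J ⥤ B) {M : A} (ι : ∀ j, i.obj (D.obj j) ⟶ M)
    (hw : ∀ {j k : J} (a : j ⟶ k), i.map (D.map a) ≫ ι k = ι j) : Cocone (D ⋙ G) where
  pt := L.obj M
  ι :=
    { app := fun j => η.app (D.obj j) ≫ L.map (ι j)
      naturality := fun j k a => by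
        show G.map (D.map a) ≫ η.app _ ≫ L.map (ι k) = (η.app _ ≫ L.map (ι j)) ≫ 𝟙 _
        rw [← Category.assoc, naturality i G L η, Category.assoc, ← L.map_comp, hw a, Category.comp_id] }

/-- A presentation of `M` by objects of `B`, computing `L M`. -/
structure Pres (M : A) where
  J : Type w
  [cat : SmallCategory J]
  [filt : IsFiltered J]
  D : J ⥤ B
  ι : ∀ j, i.obj (D.obj j) ⟶ M
  w : ∀ {j k : J} (a : j ⟶ k), i.map (D.map a) ≫ ι k = ι j
  lift : ∀ (b : B) (φ : i.obj b ⟶ M), ∃ (j : J) (g : b ⟶ D.obj j), i.map g ≫ ι j = φ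
  epi : ∀ (b : B) (π : M ⟶ i.obj b) [Epi π], ∃ (j : J) (g : D.obj j ⟶ b), i.map g = ι j ≫ π ∧ Epi g
  isColimit : IsColimit (kanCocone i G L η D ι w)

attribute [instance] Pres.cat Pres.filt

variable {i G L η} [IsIso η] [i.Additive] [PreservesFiniteLimits G] [PreservesFiniteColimits G]

theorem Pres.hom_ext {M : A} (p : Pres i G L η M) {Z : A'} {f g : L.obj M ⟶ Z}
    (h : ∀ j, η.app (p.D.obj j) ≫ L.map (p.ι j) ≫ f = η.app (p.D.obj j) ≫ L.map (p.ι j) ≫ g) : f = g :=
  p.isColimit.hom_ext fun j => (Category.assoc _ _ _).trans ((h j).trans (Category.assoc _ _ _).symm)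

include G in
theorem G_additive : G.Additive := by
  haveI := preservesBinaryBiproducts_of_preservesBinaryProducts G
  exact G.additive_of_preservesBinaryBiproducts

variable (hp : ∀ M, Pres i G L η M)

include hp in
theorem preservesZero : L.PreservesZeroMorphisms := by
  have : G.Additive := G_additive
  refine ⟨fun M N => (hp M).hom_ext fun j => ?_⟩
  obtain ⟨k, g, hg⟩ := (hp N).lift ((hp M).D.obj j) 0
  rw [← L.map_comp, comp_zero, comp_zero, comp_zero,
    show (0 : i.obj ((hp M).D.obj j) ⟶ N) = i.map (0 : (hp M).D.obj j ⟶ (hp N).D.obj k) ≫ (hp N).ι k by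
      rw [i.map_zero, zero_comp],
    L.map_comp, ← reassoc_of% (naturality i G L η (0 : (hp M).D.obj j ⟶ (hp N).D.obj k)), G.map_zero, zero_comp]

include hp in
theorem additive : L.Additive := by
  have : G.Additive := G_additive
  refine ⟨fun {M N} f g => (hp M).hom_ext fun j => ?_⟩
  obtain ⟨k₁, a, ha⟩ := (hp N).lift _ ((hp M).ι j ≫ f)
  obtain ⟨k₂, b, hb⟩ := (hp N).lift _ ((hp M).ι j ≫ g)
  let s := (hp N).D.map (IsFiltered.leftToMax k₁ k₂)
  let t := (hp N).D.map (IsFiltered.rightToMax k₁ k₂)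
  have ha' : i.map (a ≫ s) ≫ (hp N).ι _ = (hp M).ι j ≫ f := by rw [i.map_comp, Category.assoc, (hp N).w, ha]
  have hb' : i.map (b ≫ t) ≫ (hp N).ι _ = (hp M).ι j ≫ g := by rw [i.map_comp, Category.assoc, (hp N).w, hb]
  rw [Preadditive.comp_add, Preadditive.comp_add, ← L.map_comp, ← L.map_comp, ← L.map_comp, Preadditive.comp_add,
    ← ha', ← hb', ← Preadditive.add_comp, ← i.map_add, L.map_comp, L.map_comp, L.map_comp,
    ← reassoc_of% (naturality i G L η (a ≫ s)), ← reassoc_of% (naturality i G L η (b ≫ t)),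
    ← reassoc_of% (naturality i G L η (a ≫ s + b ≫ t)), G.map_add, Preadditive.add_comp]

include hp in
/-- A map out of `L M` killing what comes from objects of `B` killed by `φ` kills the kernel of `L φ`. -/
theorem kill {M N : A} (φ : M ⟶ N) {Z : A'} (h : L.obj M ⟶ Z)
    (H : ∀ (b : B) (c : i.obj b ⟶ M), c ≫ φ = 0 → η.app b ≫ L.map c ≫ h = 0) :
    kernel.ι (L.map φ) ≫ h = 0 := by
  let p := hp M
  let q := hp N
  let α : p.D ⋙ G ⟶ (Functor.const p.J).obj (L.obj N) :=
    { app := fun j => η.app (p.D.obj j) ≫ L.map (p.ι j ≫ φ)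
      naturality := fun j k a => by
        show G.map (p.D.map a) ≫ η.app _ ≫ L.map (p.ι k ≫ φ) = (η.app _ ≫ L.map (p.ι j ≫ φ)) ≫ 𝟙 _
        rw [reassoc_of% (naturality i G L η (p.D.map a)), ← L.map_comp, reassoc_of% p.w a, Category.comp_id] }
  haveI : IsConnected p.J := IsFiltered.isConnected _
  refine kill_kernel α p.isColimit (isColimitConstCocone p.J (L.obj N)) (L.map φ) (fun j => ?_) h fun j => ?_
  · show (η.app _ ≫ L.map (p.ι j)) ≫ L.map φ = (η.app _ ≫ L.map (p.ι j ≫ φ)) ≫ 𝟙 _
    rw [Category.assoc, ← L.map_comp, Category.comp_id]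
  · obtain ⟨k, g, hg⟩ := q.lift (p.D.obj j) (p.ι j ≫ φ)
    haveI : IsConnected (Under k) := IsFiltered.isConnected _
    let β : (Functor.const (Under k)).obj (G.obj (p.D.obj j)) ⟶ Under.forget k ⋙ q.D ⋙ G :=
      { app := fun a => G.map (g ≫ q.D.map a.hom)
        naturality := fun a a' m => by
          show 𝟙 _ ≫ G.map (g ≫ q.D.map a'.hom) = G.map (g ≫ q.D.map a.hom) ≫ G.map (q.D.map m.right)
          rw [Category.id_comp, ← G.map_comp, Category.assoc, ← q.D.map_comp, Under.w m] }
    refine kill_kernel β (isColimitConstCocone (Under k) (G.obj (p.D.obj j)))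
      ((Functor.Final.isColimitWhiskerEquiv (Under.forget k) _).symm q.isColimit) (α.app j) (fun a => ?_)
      ((kanCocone i G L η p.D p.ι p.w).ι.app j ≫ h) (fun a => ?_)
    · show 𝟙 _ ≫ η.app _ ≫ L.map (p.ι j ≫ φ) = G.map (g ≫ q.D.map a.hom) ≫ η.app _ ≫ L.map (q.ι a.right)
      rw [Category.id_comp, ← Category.assoc (G.map _), naturality i G L η, Category.assoc, ← L.map_comp,
        i.map_comp, Category.assoc, q.w, hg]
    · let r := g ≫ q.D.map a.hom
      have hc : (i.map (kernel.ι r) ≫ p.ι j) ≫ φ = 0 := by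
        rw [Category.assoc, ← hg, ← q.w a.hom, ← i.map_comp_assoc, ← i.map_comp_assoc, Category.assoc (kernel.ι r), kernel.condition r, i.map_zero,
          zero_comp]
      have h0 := H _ _ hc
      rw [L.map_comp, Category.assoc, ← reassoc_of% (naturality i G L η (kernel.ι r))] at h0
      show kernel.ι (G.map r) ≫ 𝟙 _ ≫ (η.app _ ≫ L.map (p.ι j)) ≫ h = 0
      rw [Category.id_comp, Category.assoc, ← PreservesKernel.iso_inv_ι G r, Category.assoc, h0, comp_zero]

include hp in
/-- The extension is exact. -/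
theorem exact : PreservesFiniteLimits L ∧ PreservesFiniteColimits L := by
  haveI := preservesZero hp
  haveI := additive hp
  have hmap : ∀ S : ShortComplex A, S.Exact → (S.map L).Exact := fun S hS => by
    rw [ShortComplex.exact_iff_kernel_ι_comp_cokernel_π_zero]
    show kernel.ι (L.map S.g) ≫ cokernel.π (L.map S.f) = 0
    refine kill hp S.g _ fun b c hc => ?_
    obtain ⟨W, π, hπ, x, hx⟩ := hS.exact_up_to_refinements c hc
    obtain ⟨j, g, hg, hgepi⟩ := (hp W).epi b π
    haveI : Epi (G.map g) := inferInstance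
    rw [← cancel_epi (G.map g), comp_zero, reassoc_of% (naturality i G L η g), ← L.map_comp_assoc, hg,
      Category.assoc, hx, L.map_comp, L.map_comp]
    simp
  haveI := L.preservesHomology_of_map_exact hmap
  exact ⟨L.preservesFiniteLimits_of_preservesHomology, L.preservesFiniteColimits_of_preservesHomology⟩

section Concrete

variable {C : Type u₂} [Category.{w} C] [Abelian C] [HasFilteredColimitsOfSize.{w, w} C] {P Q : ObjectProperty C}
  (hPQ : P ≤ Q) (hQ : Q ≤ ObjectProperty.ind.{w} P)
  [P.ContainsZero] [P.IsClosedUnderKernels] [P.IsClosedUnderCokernels] [P.IsClosedUnderFiniteProducts]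
  [Q.ContainsZero] [Q.IsClosedUnderKernels] [Q.IsClosedUnderCokernels] [Q.IsClosedUnderFiniteProducts]
  (hFP : ∀ b : C, P b → ∀ (J : Type w) [SmallCategory J] [IsFiltered J] (D : J ⥤ C),
    PreservesColimit D (coyoneda.obj (op b)))
  (K : P.FullSubcategory ⥤ A') [PreservesFiniteLimits K] [PreservesFiniteColimits K]
  [(ObjectProperty.ιOfLE hPQ).HasPointwiseLeftKanExtension K]

include hQ hFP in
/-- Exactness of the left Kan extension of an exact functor to ind-objects. -/
theorem exact_pointwiseLeftKanExtension :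
    PreservesFiniteLimits ((ObjectProperty.ιOfLE hPQ).pointwiseLeftKanExtension K) ∧
      PreservesFiniteColimits ((ObjectProperty.ιOfLE hPQ).pointwiseLeftKanExtension K) := by
  haveI : (ObjectProperty.ιOfLE hPQ).Additive := {}
  haveI : IsIso ((ObjectProperty.ιOfLE hPQ).pointwiseLeftKanExtensionUnit K) :=
    (Functor.pointwiseLeftKanExtensionIsPointwiseLeftKanExtension _ K).isIso_hom
  haveI : Q.ι.PreservesEpimorphisms := Q.preservesEpimorphisms_ι_of_isNormalMonoCategory
  suffices h : ∀ M, Nonempty (Pres.{w} (ObjectProperty.ιOfLE hPQ) K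
      ((ObjectProperty.ιOfLE hPQ).pointwiseLeftKanExtension K)
      ((ObjectProperty.ιOfLE hPQ).pointwiseLeftKanExtensionUnit K) M) from exact fun M => (h M).some
  intro M
  obtain ⟨J, _, _, pres, hD⟩ := hQ _ M.property
  let D : J ⥤ P.FullSubcategory := P.lift pres.diag hD
  let ι : ∀ j, (ObjectProperty.ιOfLE hPQ).obj (D.obj j) ⟶ M := fun j => Q.homMk (pres.ι.app j)
  have hw : ∀ {j k : J} (a : j ⟶ k), (ObjectProperty.ιOfLE hPQ).map (D.map a) ≫ ι k = ι j := fun a =>
    ObjectProperty.hom_ext _ ((pres.cocone).w a)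
  have lift : ∀ (b : P.FullSubcategory) (φ : (ObjectProperty.ιOfLE hPQ).obj b ⟶ M),
      ∃ (j : J) (g : b ⟶ D.obj j), (ObjectProperty.ιOfLE hPQ).map g ≫ ι j = φ := fun b φ => by
    haveI := hFP b.obj b.property J pres.diag
    obtain ⟨j, g, hg⟩ := Types.jointly_surjective _ (isColimitOfPreserves (coyoneda.obj (op b.obj)) pres.isColimit) φ.hom
    exact ⟨j, P.homMk g, ObjectProperty.hom_ext _ hg⟩
  let Φ : J ⥤ CostructuredArrow (ObjectProperty.ιOfLE hPQ) M :=
    { obj := fun j => CostructuredArrow.mk (ι j)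
      map := fun a => CostructuredArrow.homMk (D.map a) (hw a)
      map_id := fun j => CostructuredArrow.hom_ext _ _ (D.map_id j)
      map_comp := fun a a' => CostructuredArrow.hom_ext _ _ (D.map_comp a a') }
  haveI : Φ.Final := Functor.final_of_exists_of_isFiltered Φ
    (fun d => by
      obtain ⟨j, g, hg⟩ := lift d.left d.hom
      exact ⟨j, ⟨CostructuredArrow.homMk g hg⟩⟩)
    (fun {d j} s s' => by
      haveI := hFP d.left.obj d.left.property J pres.diag
      have e : s.left.hom ≫ pres.ι.app j = s'.left.hom ≫ pres.ι.app j :=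
        congrArg (fun f => f.hom) ((CostructuredArrow.w s).trans (CostructuredArrow.w s').symm)
      obtain ⟨k, a, b, hab⟩ := (Types.FilteredColimit.isColimit_eq_iff _
        (isColimitOfPreserves (coyoneda.obj (op d.left.obj)) pres.isColimit)).1 e
      refine ⟨IsFiltered.coeq a b, a ≫ IsFiltered.coeqHom a b, CostructuredArrow.hom_ext _ _ (ObjectProperty.hom_ext _ ?_)⟩
      show s.left.hom ≫ pres.diag.map (a ≫ IsFiltered.coeqHom a b) = s'.left.hom ≫ pres.diag.map (a ≫ IsFiltered.coeqHom a b)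
      conv_rhs => rw [IsFiltered.coeq_condition]
      simp only [Functor.map_comp, ← Category.assoc]
      exact congrArg (fun t => t ≫ pres.diag.map (IsFiltered.coeqHom a b)) hab)
  refine ⟨{ J := J, D := D, ι := ι, w := hw, lift := lift, epi := fun b π hπ => ?_, isColimit := ?_ }⟩
  · have hπ' : Epi π.hom := inferInstanceAs (Epi (Q.ι.map π))
    haveI := hπ'
    let F : J ⥤ C :=
      { obj := fun j => cokernel (pres.ι.app j ≫ π.hom)
        map := fun {j k} a => cokernel.map _ _ (pres.diag.map a) (𝟙 _) (by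
          rw [Category.comp_id, ← Category.assoc]
          exact congrArg (fun t => t ≫ π.hom) (pres.cocone.w a).symm)
        map_id := fun j => coequalizer.hom_ext (by simp [cokernel.map])
        map_comp := fun a a' => coequalizer.hom_ext (by simp [cokernel.map]) }
    let q : ∀ j, b.obj ⟶ F.obj j := fun j => cokernel.π _
    have hq : ∀ {j k : J} (a : j ⟶ k), q j ≫ F.map a = q k := fun a => by
      simp [F, q, cokernel.map]
    let r : J → (b.obj ⟶ colimit F) := fun j => q j ≫ colimit.ι F j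
    have hr : ∀ j k, r j = r k := fun j k => by
      have h1 : ∀ {j k : J} (a : j ⟶ k), r j = r k := fun {j k} a => by
        show q j ≫ colimit.ι F j = q k ≫ colimit.ι F k
        rw [← colimit.w F a, ← Category.assoc, hq]
      exact (h1 (IsFiltered.leftToMax j k)).trans (h1 (IsFiltered.rightToMax j k)).symm
    obtain ⟨j₀⟩ := IsFiltered.nonempty (C := J)
    have hr0 : r j₀ = 0 := (cancel_epi π.hom).1 (pres.isColimit.hom_ext fun j => by
      rw [comp_zero, comp_zero, hr j₀ j]
      show pres.ι.app j ≫ π.hom ≫ cokernel.π _ ≫ _ = 0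
      rw [← Category.assoc (π.hom), ← Category.assoc (pres.ι.app j), ← Category.assoc (pres.ι.app j),
        cokernel.condition, zero_comp])
    haveI := hFP b.obj b.property J F
    obtain ⟨k, a, a', e⟩ := (Types.FilteredColimit.isColimit_eq_iff _
        (isColimitOfPreserves (coyoneda.obj (op b.obj)) (colimit.isColimit F))).1
      (show q j₀ ≫ colimit.ι F j₀ = (0 : b.obj ⟶ F.obj j₀) ≫ colimit.ι F j₀ by rw [zero_comp]; exact hr0)
    change q j₀ ≫ F.map a = 0 ≫ F.map a' at e
    rw [hq, zero_comp] at e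
    refine ⟨k, P.homMk (pres.ι.app k ≫ π.hom), ObjectProperty.hom_ext _ rfl, ?_⟩
    haveI : Epi (pres.ι.app k ≫ π.hom) := Preadditive.epi_of_cokernel_zero (show cokernel.π _ = 0 from e)
    exact P.ι.epi_of_epi_map (inferInstanceAs (Epi (pres.ι.app k ≫ π.hom)))
  · refine IsColimit.ofIsoColimit ((Functor.Final.isColimitWhiskerEquiv Φ _).symm
      (colimit.isColimit (CostructuredArrow.proj (ObjectProperty.ιOfLE hPQ) M ⋙ K))) (Cocone.ext (Iso.refl _) fun j => ?_)
    show colimit.ι (CostructuredArrow.proj _ M ⋙ K) (CostructuredArrow.mk (ι j)) ≫ 𝟙 _ =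
      ((ObjectProperty.ιOfLE hPQ).pointwiseLeftKanExtensionUnit K).app (D.obj j) ≫
        ((ObjectProperty.ιOfLE hPQ).pointwiseLeftKanExtension K).map (ι j)
    simp only [Category.comp_id]
    refine Eq.symm ?_
    erw [colimit.ι_desc]
    show colimit.ι (CostructuredArrow.proj (ObjectProperty.ιOfLE hPQ) M ⋙ K)
        ((CostructuredArrow.map (ι j)).obj (CostructuredArrow.mk (𝟙 _))) =
      colimit.ι (CostructuredArrow.proj (ObjectProperty.ιOfLE hPQ) M ⋙ K) (CostructuredArrow.mk (ι j))
    congr 1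
    rw [CostructuredArrow.map_mk, Category.id_comp]

end Concrete

end KanExactLib

end
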